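import Cfsg.Agent.Mrg.Omega.CaseL.Base


/-!
# NO-3S, `|V| = 4`: points as involutions, all critical distances

`Fr T V z` : a flag `(z, V)` as in `CaseL.Ln` (K-free), `W_z = ws V z` abelian, and (F1): `K_z = kq V z` moves the
points of `V`.  Points: the conjugates of `z`; lines: the conjugates of `V` (`lines V x`); `W_x = ws V x`;
`TwoOne.ii V` = the intersection of the `W_p`, `p ∈ V#`.
(The statements and proofs are those of `TwoOne/Base.lean`, without the condition `[W_z, W_y] ≠ 1`.)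

* `Fr.conj`, `Fr.point`, `Fr.of_mem` : every flag is as good as `(z, V)`;
* `Fr.mem_ii` : `ii V` is the intersection of any two of the `W_p`;
* `Fr.fu` (FU) : for `u ∈ ii V`, `u ∉ V` and every point `p` of `V` some `k ∈ K_p ∩ C_G(V)` has `k u k⁻¹ = p u`;
* `Fr.ftwo` (F2) : `N_G(V) ∩ C_G(u)` is transitive on the points of `V`.
-/

set_option autoImplicit false
set_option linter.unusedSectionVars false

namespace Cfsg.Agent.Omega.NO3S.Pt

open Subgroup Cfsg Cfsg.Agent.ZN Cfsg.Agent.MinSimple.Geo Cfsg.Agent.Omega.CaseL Cfsg.Agent.Omega.NO3S.TwoOne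
open Cfsg.Agent.ZN.Block (conj_mem_of_normalizer conj_mem_of_normalizer' le_normalizer_of_forall
  mem_normalizer_of)

universe u

variable {G : Type u} [Group G]

/-- a flag, with (F1) -/
structure Fr (T V : Subgroup G) (z : G) : Prop where
  ln : Ln T V z
  ab : ∀ a ∈ ws V z, ∀ b ∈ ws V z, a * b = b * a
  f1 : ∃ k ∈ kq V z, k ∉ centralizer (V : Set G)

namespace Fr

variable {T V : Subgroup G} {z : G}

theorem conj (h : Fr T V z) (g : G) : Fr (cj g T) (cj g V) (g * z * g⁻¹) where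
  ln := h.ln.conj g
  ab := by
    rw [ws_cj, ← cj_ws]
    intro a ha b hb
    have := h.ab _ (mem_of_cj ha) _ (mem_of_cj hb)
    calc a * b = g * ((g⁻¹ * a * g) * (g⁻¹ * b * g)) * g⁻¹ := by group
      _ = g * ((g⁻¹ * b * g) * (g⁻¹ * a * g)) * g⁻¹ := by rw [this]
      _ = b * a := by group
  f1 := by
    obtain ⟨k, hk, hk1⟩ := h.f1
    refine ⟨g * k * g⁻¹, ?_, ?_⟩
    · rw [kq_cj]; exact conj_mem_kq g hk
    · intro e
      apply hk1
      rw [mem_centralizer_iff] at e ⊢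
      intro v hv
      have := e _ (conj_mem_cj hv)
      calc v * k = g⁻¹ * ((g * v * g⁻¹) * (g * k * g⁻¹)) * g := by group
        _ = g⁻¹ * ((g * k * g⁻¹) * (g * v * g⁻¹)) * g := by rw [this]
        _ = k * v := by group

theorem point (h : Fr T V z) {p : G} (hp : p ∈ V) (hp1 : p ≠ 1) :
    ∃ g ∈ normalizer (V : Set G), g * z * g⁻¹ = p ∧ Fr (cj g T) V p := by
  obtain ⟨g, hg, rfl⟩ := h.ln.trans p hp hp1
  refine ⟨g, hg, rfl, ?_⟩
  have := h.conj g
  rwa [cj_eq_of_mem_normalizer hg] at this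

theorem sqz (h : Fr T V z) : ∀ a ∈ ws V z, a * a = 1 := ws_sq h.ln h.ab

/-! ### all points of `V` -/

section points

variable {p q : G}

theorem sq (h : Fr T V z) (hp : p ∈ V) (hp1 : p ≠ 1) : ∀ a ∈ ws V p, a * a = 1 := by
  obtain ⟨g, -, -, hg⟩ := h.point hp hp1
  exact hg.sqz

theorem comm (h : Fr T V z) (hp : p ∈ V) (hp1 : p ≠ 1) : ∀ a ∈ ws V p, ∀ b ∈ ws V p, a * b = b * a := by
  obtain ⟨g, -, -, hg⟩ := h.point hp hp1
  exact hg.ab

theorem V_le (h : Fr T V z) (hp : p ∈ V) (hp1 : p ≠ 1) : V ≤ ws V p := by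
  obtain ⟨g, -, -, hg⟩ := h.point hp hp1
  exact hg.ln.V_le_ws

theorem ws_le_centralizer_V (h : Fr T V z) (hp : p ∈ V) (hp1 : p ≠ 1) :
    ws V p ≤ centralizer (V : Set G) := by
  intro a ha
  rw [mem_centralizer_iff]
  intro v hv
  exact h.comm hp hp1 v (h.V_le hp hp1 hv) a ha

theorem V_comm (_ : Fr T V z) {v c : G} (hv : v ∈ V) (hc : c ∈ centralizer (V : Set G)) :
    v * c = c * v := mem_centralizer_iff.mp hc v hv

theorem V_le_centralizer (h : Fr T V z) : V ≤ centralizer (V : Set G) := by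
  intro v hv
  rw [mem_centralizer_iff]
  intro w hw
  exact h.ln.comm hw hv

theorem cent_le_centralizer (_ : Fr T V z) (hp : p ∈ V) :
    centralizer (V : Set G) ≤ centralizer ({p} : Set G) := by
  intro c hc
  rw [mem_centralizer_singleton_iff]
  exact (mem_centralizer_iff.mp hc p hp).symm

/-- `C_G(V)` normalizes `W_p` -/
theorem cent_norm (h : Fr T V z) (hp : p ∈ V) :
    centralizer (V : Set G) ≤ normalizer ((ws V p : Subgroup G) : Set G) :=
  (h.cent_le_centralizer hp).trans (centralizer_le_normalizer_ws V p)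

theorem mul_ne_one (h : Fr T V z) (hq : q ∈ V) (hpq : p ≠ q) : p * q ≠ 1 := fun e =>
  hpq (by rw [mul_eq_one_iff_eq_inv.mp e, h.ln.inv_eq hq])

theorem mem_centralizer_of (h : Fr T V z) (hp : p ∈ V) (hp1 : p ≠ 1) (hq : q ∈ V) (hq1 : q ≠ 1)
    (hqp : q ≠ p) {g : G} (h1 : g * p = p * g) (h2 : g * q = q * g) :
    g ∈ centralizer (V : Set G) := by
  obtain ⟨g, -, -, hg⟩ := h.point hp hp1
  exact hg.ln.mem_centralizer_V hq hq1 hqp h1 h2

theorem exists_q (h : Fr T V z) (hp : p ∈ V) (hp1 : p ≠ 1) : ∃ q ∈ V, q ≠ 1 ∧ q ≠ p := by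
  obtain ⟨g, -, -, hg⟩ := h.point hp hp1
  exact hg.ln.exists_y

/-- elements of `K_p` act on `W_p` by multiplication with `1` or `p` -/
theorem kq_cases (h : Fr T V z) (hp : p ∈ V) {k w : G} (hk : k ∈ kq V p) (hw : w ∈ ws V p) :
    k * w * k⁻¹ = w ∨ k * w * k⁻¹ = p * w := by
  rcases (mem_zpowers_iff_of_mul_self (h.ln.sq p hp)).mp (kq_comm hk hw) with e | e
  · left
    calc k * w * k⁻¹ = (k * w * k⁻¹ * w⁻¹) * w := by group
      _ = w := by rw [e, one_mul]
  · right
    calc k * w * k⁻¹ = (k * w * k⁻¹ * w⁻¹) * w := by group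
      _ = p * w := by rw [e]

theorem kq_p (_ : Fr T V z) {k : G} (hk : k ∈ kq V p) : k * p = p * k :=
  mem_centralizer_singleton_iff.mp (kq_le_centralizer V p hk)

/-- `K_p` normalizes `V` -/
theorem kq_le_normalizer (h : Fr T V z) (hp : p ∈ V) (hp1 : p ≠ 1) :
    kq V p ≤ normalizer (V : Set G) := by
  refine le_normalizer_of_forall fun k hk v hv => ?_
  rcases h.kq_cases hp hk (h.V_le hp hp1 hv) with e | e
  · rw [e]; exact hv
  · rw [e]; exact mul_mem hp hv

/-- (F1) at every point -/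
theorem exists_mover (h : Fr T V z) (hp : p ∈ V) (hp1 : p ≠ 1) :
    ∃ k ∈ kq V p, k ∉ centralizer (V : Set G) := by
  obtain ⟨g, -, -, hg⟩ := h.point hp hp1
  exact hg.f1

/-- a mover of `K_p` moves the points `q ≠ p` to `p q` -/
theorem move (h : Fr T V z) (hp : p ∈ V) (hp1 : p ≠ 1) (hq : q ∈ V) (hq1 : q ≠ 1) (hqp : q ≠ p)
    {k : G} (hk : k ∈ kq V p) (hk1 : k ∉ centralizer (V : Set G)) : k * q * k⁻¹ = p * q := by
  rcases h.kq_cases hp hk (h.V_le hp hp1 hq) with e | e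
  · exfalso
    exact hk1 (h.mem_centralizer_of hp hp1 hq hq1 hqp (h.kq_p hk) (comm_of_conj_eq e))
  · exact e

/-- the movers of `K_p` form one coset of `K_p ∩ C_G(V)` -/
theorem mover_coset (h : Fr T V z) (hp : p ∈ V) (hp1 : p ≠ 1) {k k' : G} (hk : k ∈ kq V p)
    (hk1 : k ∉ centralizer (V : Set G)) (hk' : k' ∈ kq V p) (hk1' : k' ∉ centralizer (V : Set G)) :
    k' * k⁻¹ ∈ centralizer (V : Set G) := by
  obtain ⟨q, hq, hq1, hqp⟩ := h.exists_q hp hp1
  refine h.mem_centralizer_of hp hp1 (mul_mem hp hq) (h.mul_ne_one hq (Ne.symm hqp)) ?_ ?_ ?_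
  · intro e'
    exact hq1 (by simpa using e')
  · exact mul_comm_of (h.kq_p hk') (inv_comm_of (h.kq_p hk))
  · refine comm_of_conj_eq ?_
    have e1 := h.move hp hp1 hq hq1 hqp hk hk1
    have e2 := h.move hp hp1 hq hq1 hqp hk' hk1'
    calc k' * k⁻¹ * (p * q) * (k' * k⁻¹)⁻¹ = k' * (k⁻¹ * (p * q) * k) * k'⁻¹ := by group
      _ = k' * (k⁻¹ * (k * q * k⁻¹) * k) * k'⁻¹ := by rw [e1]
      _ = k' * q * k'⁻¹ := by group
      _ = p * q := e2

end points

end Fr

namespace Fr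

variable {T V : Subgroup G} {z : G}

theorem V_le_ii (h : Fr T V z) : V ≤ ii V := fun _ hv _ hp hp1 => h.V_le hp hp1 hv

theorem ii_le_centralizer (h : Fr T V z) : ii V ≤ centralizer (V : Set G) :=
  (ii_le h.ln.z_mem h.ln.z_ne).trans (h.ws_le_centralizer_V h.ln.z_mem h.ln.z_ne)

/-- `ii V` is the intersection of any two of the `W_p`. -/
theorem mem_ii (h : Fr T V z) {p q u : G} (hp : p ∈ V) (hp1 : p ≠ 1) (hq : q ∈ V) (hq1 : q ≠ 1)
    (hqp : q ≠ p) (h1 : u ∈ ws V p) (h2 : u ∈ ws V q) : u ∈ ii V := by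
  intro r hr hr1
  obtain ⟨g, -, -, hg⟩ := h.point hp hp1
  rcases hg.ln.four hp hq hp1 hq1 (Ne.symm hqp) hr with e | e | e | e
  · exact absurd e hr1
  · rw [e]; exact h1
  · rw [e]; exact h2
  · obtain ⟨k, hk, hk1⟩ := h.exists_mover hp hp1
    have e1 := h.move hp hp1 hq hq1 hqp hk hk1
    have h3 := conj_mem_ws k h2
    rw [e1, ← e] at h3
    rcases h.kq_cases hp hk h1 with e2 | e2
    · rwa [e2] at h3
    · rw [e2] at h3
      have h4 := mul_mem (h.V_le hr hr1 hp) h3
      rwa [← mul_assoc, h.ln.sq p hp, one_mul] at h4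

/-- the fixed points of all `K_p` on `ii V` are trivial -/
theorem fix_triv [Finite G] (h : Fr T V z) {u : G} (hu : u ∈ ii V)
    (hf : ∀ p ∈ V, p ≠ 1 → ∀ k ∈ kq V p, k * u = u * k) : u = 1 := by
  let D : Subgroup G :=
    { carrier := {d | d ∈ ii V ∧ ∀ p ∈ V, p ≠ 1 → ∀ k ∈ kq V p, k * d = d * k}
      mul_mem' := by
        rintro a b ⟨ha, ha1⟩ ⟨hb, hb1⟩
        exact ⟨mul_mem ha hb, fun p hp hp1 k hk => comm_mul_of (ha1 p hp hp1 k hk) (hb1 p hp hp1 k hk)⟩
      one_mem' := ⟨one_mem _, fun p hp hp1 k hk => by simp⟩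
      inv_mem' := by
        rintro a ⟨ha, ha1⟩
        exact ⟨inv_mem ha, fun p hp hp1 k hk => comm_inv_of (ha1 p hp hp1 k hk)⟩ }
  have hDn : D ≤ normalizer (V : Set G) := fun d hd =>
    centralizer_le_normalizer _ (h.ii_le_centralizer hd.1)
  have hN : normalizer (V : Set G) ≤ normalizer (D : Set G) := by
    refine le_normalizer_of_forall fun g hg d hd => ?_
    refine ⟨conj_mem_of_normalizer (normalizer_le_normalizer_ii V) hg hd.1, fun p hp hp1 k hk => ?_⟩
    have hp' : g⁻¹ * p * g ∈ V := (mem_normalizer_iff''.mp hg p).mp hp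
    have hp1' : g⁻¹ * p * g ≠ 1 := fun e => hp1 (by
      have : p = g * (g⁻¹ * p * g) * g⁻¹ := by group
      rw [this, e]; group)
    have hk' : g⁻¹ * k * g ∈ kq V (g⁻¹ * p * g) := by
      have := conj_mem_kq g⁻¹ hk
      rwa [inv_inv] at this
    have := hd.2 _ hp' hp1' _ hk'
    calc k * (g * d * g⁻¹) = g * ((g⁻¹ * k * g) * d) * g⁻¹ := by group
      _ = g * (d * (g⁻¹ * k * g)) * g⁻¹ := by rw [this]
      _ = g * d * g⁻¹ * k := by group
  have hD : D = ⊥ := by
    by_contra hne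
    have hz := h.ln.z_mem_of_normal hDn hN hne
    obtain ⟨y, hy, hy1, hyz⟩ := h.ln.exists_y
    obtain ⟨k, hk, hk1⟩ := h.exists_mover hy hy1
    have e1 := h.move hy hy1 h.ln.z_mem h.ln.z_ne (Ne.symm hyz) hk hk1
    have e2 := hz.2 y hy hy1 k hk
    rw [conj_eq_of_comm e2] at e1
    exact hy1 (by simpa using e1.symm)
  have : u ∈ D := ⟨hu, hf⟩
  rw [hD] at this
  exact mem_bot.mp this

/-- (FU), for some point -/
theorem fu_aux [Finite G] (h : Fr T V z) {u : G} (hu : u ∈ ii V) (huV : u ∉ V) :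
    ∃ p ∈ V, p ≠ 1 ∧ ∃ k ∈ kq V p, k ∈ centralizer (V : Set G) ∧ k * u * k⁻¹ = p * u := by
  by_contra hcon
  push Not at hcon
  have hcent : ∀ p ∈ V, p ≠ 1 → ∀ k ∈ kq V p, k ∈ centralizer (V : Set G) → k * u = u * k := by
    intro p hp hp1 k hk hkV
    rcases h.kq_cases hp hk (hu p hp hp1) with e | e
    · exact comm_of_conj_eq e
    · exact absurd e (hcon p hp hp1 k hk hkV)
  have hz := h.ln.z_mem
  have hz1 := h.ln.z_ne
  have hzz := h.ln.zz
  obtain ⟨y, hy, hy1, hyz⟩ := h.ln.exists_y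
  have hyy := h.ln.sq y hy
  obtain ⟨s, hs, hs1⟩ := h.exists_mover hz hz1
  obtain ⟨t, ht, ht1⟩ := h.exists_mover hy hy1
  have hzy := h.ln.comm hz hy
  have hsy := h.move hz hz1 hy hy1 hyz hs hs1
  have htz := h.move hy hy1 hz hz1 (Ne.symm hyz) ht ht1
  have hsz : s * z * s⁻¹ = z := conj_eq_of_comm (h.kq_p hs)
  have hty : t * y * t⁻¹ = y := conj_eq_of_comm (h.kq_p ht)
  have huc := h.ii_le_centralizer hu
  have huz := h.V_comm hz huc
  have huy := h.V_comm hy huc
  -- a point of `u V` fixed by `s` and `t`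
  obtain ⟨v, hv, hsv, htv⟩ : ∃ v ∈ V, s * (v * u) * s⁻¹ = v * u ∧ t * (v * u) * t⁻¹ = v * u := by
    have es : ∀ v, s * (v * u) * s⁻¹ = (s * v * s⁻¹) * (s * u * s⁻¹) := fun v => by group
    have et : ∀ v, t * (v * u) * t⁻¹ = (t * v * t⁻¹) * (t * u * t⁻¹) := fun v => by group
    rcases h.kq_cases hz hs (hu z hz hz1) with e1 | e1 <;>
      rcases h.kq_cases hy ht (hu y hy hy1) with e2 | e2
    · exact ⟨1, one_mem _, by simpa using e1, by simpa using e2⟩
    · -- `v = z`
      refine ⟨z, hz, ?_, ?_⟩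
      · rw [es, hsz, e1]
      · rw [et, htz, e2]
        calc y * z * (y * u) = y * (z * y) * u := by group
          _ = (y * y) * (z * u) := by rw [hzy]; group
          _ = z * u := by rw [hyy, one_mul]
    · refine ⟨y, hy, ?_, ?_⟩
      · rw [es, hsy, e1]
        calc z * y * (z * u) = z * (y * z) * u := by group
          _ = (z * z) * (y * u) := by rw [← hzy]; group
          _ = y * u := by rw [hzz, one_mul]
      · rw [et, hty, e2]
    · refine ⟨y * z, mul_mem hy hz, ?_, ?_⟩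
      · have : s * (y * z) * s⁻¹ = (s * y * s⁻¹) * (s * z * s⁻¹) := by group
        rw [es, this, hsy, hsz, e1]
        calc z * y * z * (z * u) = z * y * (z * z) * u := by group
          _ = z * y * u := by rw [hzz, mul_one]
          _ = y * z * u := by rw [hzy]
      · have : t * (y * z) * t⁻¹ = (t * y * t⁻¹) * (t * z * t⁻¹) := by group
        rw [et, this, hty, htz, e2]
        calc y * (y * z) * (y * u) = (y * y) * (z * y) * u := by group
          _ = (z * y) * u := by rw [hyy, one_mul]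
          _ = y * z * u := by rw [hzy]
  set a := v * u with ha
  have hai : a ∈ ii V := mul_mem (h.V_le_ii hv) hu
  have hacent : ∀ p ∈ V, p ≠ 1 → ∀ k ∈ kq V p, k ∈ centralizer (V : Set G) → k * a = a * k :=
    fun p hp hp1 k hk hkV => comm_mul_of (h.V_comm hv hkV).symm (hcent p hp hp1 k hk hkV)
  -- one mover which fixes `a` is enough
  have hone : ∀ p ∈ V, p ≠ 1 → ∀ m ∈ kq V p, m ∉ centralizer (V : Set G) → m * a = a * m →
      ∀ k ∈ kq V p, k * a = a * k := by
    intro p hp hp1 m hm hm1 hma k hk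
    by_cases hk1 : k ∈ centralizer (V : Set G)
    · exact hacent p hp hp1 k hk hk1
    · have h1 := hacent p hp hp1 _ (mul_mem hk (inv_mem hm)) (h.mover_coset hp hp1 hm hm1 hk hk1)
      have h2 := mul_comm_of h1 hma
      simpa using h2
  have ha1 : a = 1 := by
    refine h.fix_triv hai fun p hp hp1 => ?_
    rcases h.ln.four hz hy hz1 hy1 (Ne.symm hyz) hp with e | e | e | e
    · exact absurd e hp1
    · subst e; exact hone _ hz hz1 s hs hs1 (comm_of_conj_eq hsv)
    · subst e; exact hone _ hy hy1 t ht ht1 (comm_of_conj_eq htv)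
    · have hm := conj_mem_kq s ht
      rw [hsy, ← e] at hm
      refine hone p hp hp1 (s * t * s⁻¹) hm ?_ ?_
      · intro hc
        apply ht1
        have := conj_mem_of_normalizer' (normalizer_le_normalizer_centralizer V)
          (h.kq_le_normalizer hz hz1 hs) hc
        have e' : s⁻¹ * (s * t * s⁻¹) * s = t := by group
        rwa [e'] at this
      · have h1 := comm_of_conj_eq hsv
        have h2 := comm_of_conj_eq htv
        exact mul_comm_of (mul_comm_of h1 h2) (inv_comm_of h1)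
  apply huV
  have : u = v⁻¹ * a := by rw [ha]; group
  rw [this, ha1, mul_one]
  exact inv_mem hv

/-- (FU): for `u ∈ I - V` and every point `p` some element of `K_p ∩ C_G(V)` moves `u` to `p u`. -/
theorem fu [Finite G] (h : Fr T V z) {u : G} (hu : u ∈ ii V) (huV : u ∉ V) {p : G} (hp : p ∈ V)
    (hp1 : p ≠ 1) : ∃ k ∈ kq V p, k ∈ centralizer (V : Set G) ∧ k * u * k⁻¹ = p * u := by
  obtain ⟨q, hq, hq1, k, hk, hkV, hku⟩ := h.fu_aux hu huV
  by_cases hpq : p = q
  · subst hpq; exact ⟨k, hk, hkV, hku⟩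
  have hw : p * q ∈ V := mul_mem hp hq
  have hw1 : p * q ≠ 1 := h.mul_ne_one hq hpq
  have hqw : q ≠ p * q := fun e => hp1 (by simpa using e.symm)
  obtain ⟨t, ht, ht1⟩ := h.exists_mover hw hw1
  have e1 := h.move hw hw1 hq hq1 hqw ht ht1
  have e2 : p * q * q = p := by rw [mul_assoc, h.ln.sq q hq, mul_one]
  rw [e2] at e1
  have htn := h.kq_le_normalizer hw hw1 ht
  refine ⟨t * k * t⁻¹, ?_, conj_mem_of_normalizer (normalizer_le_normalizer_centralizer V) htn hkV, ?_⟩
  · have := conj_mem_kq t hk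
    rwa [e1] at this
  · have htw : t * (p * q) * t⁻¹ = p * q := conj_eq_of_comm (h.kq_p ht)
    have huc := h.ii_le_centralizer hu
    have hkw : k * (p * q) * k⁻¹ = p * q := conj_eq_of_comm (h.V_comm hw hkV).symm
    rcases h.kq_cases hw ht (hu _ hw hw1) with e3 | e3
    · have e4 : t⁻¹ * u * t = u := by
        calc t⁻¹ * u * t = t⁻¹ * (t * u * t⁻¹) * t := by rw [e3]
          _ = u := by group
      calc t * k * t⁻¹ * u * (t * k * t⁻¹)⁻¹ = t * (k * (t⁻¹ * u * t) * k⁻¹) * t⁻¹ := by group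
        _ = t * (q * u) * t⁻¹ := by rw [e4, hku]
        _ = (t * q * t⁻¹) * (t * u * t⁻¹) := by group
        _ = p * u := by rw [e1, e3]
    · have e4 : t⁻¹ * u * t = p * q * u := by
        have h5 : t * (p * q * u) * t⁻¹ = u := by
          calc t * (p * q * u) * t⁻¹ = (t * (p * q) * t⁻¹) * (t * u * t⁻¹) := by group
            _ = (p * q) * (p * q) * u := by rw [htw, e3]; group
            _ = u := by rw [h.ln.sq _ hw, one_mul]
        calc t⁻¹ * u * t = t⁻¹ * (t * (p * q * u) * t⁻¹) * t := by rw [h5]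
          _ = p * q * u := by group
      calc t * k * t⁻¹ * u * (t * k * t⁻¹)⁻¹ = t * (k * (t⁻¹ * u * t) * k⁻¹) * t⁻¹ := by group
        _ = t * ((k * (p * q) * k⁻¹) * (k * u * k⁻¹)) * t⁻¹ := by rw [e4]; group
        _ = t * (p * q * (q * u)) * t⁻¹ := by rw [hkw, hku]
        _ = (t * (p * q) * t⁻¹) * (t * q * t⁻¹) * (t * u * t⁻¹) := by group
        _ = (p * q) * p * (p * q * u) := by rw [htw, e1, e3]
        _ = (p * q) * (p * p) * (q * u) := by group
        _ = p * (q * q) * u := by rw [h.ln.sq p hp, mul_one]; group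
        _ = p * u := by rw [h.ln.sq q hq, mul_one]

/-- (F2): for `u ∈ I - V` the group `N_G(V) ∩ C_G(u)` is transitive on the points of `V`. -/
theorem ftwo [Finite G] (h : Fr T V z) {u : G} (hu : u ∈ ii V) (huV : u ∉ V) {p q : G} (hp : p ∈ V)
    (hp1 : p ≠ 1) (hq : q ∈ V) (hq1 : q ≠ 1) :
    ∃ g ∈ normalizer (V : Set G), g * u = u * g ∧ g * p * g⁻¹ = q := by
  by_cases hpq : p = q
  · subst hpq
    exact ⟨1, one_mem _, by simp, by simp⟩
  have hw : q * p ∈ V := mul_mem hq hp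
  have hw1 : q * p ≠ 1 := h.mul_ne_one hp (Ne.symm hpq)
  have hpw : p ≠ q * p := fun e => hq1 (by simpa using e.symm)
  obtain ⟨t, ht, ht1⟩ := h.exists_mover hw hw1
  have e1 := h.move hw hw1 hp hp1 hpw ht ht1
  have e2 : q * p * p = q := by rw [mul_assoc, h.ln.sq p hp, mul_one]
  rw [e2] at e1
  have htn := h.kq_le_normalizer hw hw1 ht
  rcases h.kq_cases hw ht (hu _ hw hw1) with e3 | e3
  · exact ⟨t, htn, comm_of_conj_eq e3, e1⟩
  · obtain ⟨k, hk, hkV, hku⟩ := h.fu hu huV hw hw1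
    refine ⟨k * t, mul_mem (h.kq_le_normalizer hw hw1 hk) htn, comm_of_conj_eq ?_, ?_⟩
    · have hkw : k * (q * p) * k⁻¹ = q * p := conj_eq_of_comm (h.V_comm hw hkV).symm
      calc k * t * u * (k * t)⁻¹ = k * (t * u * t⁻¹) * k⁻¹ := by group
        _ = (k * (q * p) * k⁻¹) * (k * u * k⁻¹) := by rw [e3]; group
        _ = (q * p) * (q * p) * u := by rw [hkw, hku]; group
        _ = u := by rw [h.ln.sq _ hw, one_mul]
    · calc k * t * p * (k * t)⁻¹ = k * (t * p * t⁻¹) * k⁻¹ := by group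
        _ = k * q * k⁻¹ := by rw [e1]
        _ = q := conj_eq_of_comm (h.V_comm hq hkV).symm

end Fr



end Cfsg.Agent.Omega.NO3S.Pt
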