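import Cfsg.Agent.Mrg.Omega.NO3S.TwoOne.Bridge
import Cfsg.Agent.Mrg.Omega.NO3S.Pt.Path


/-!
# NO-3S, `|V_P| = 4`: from `Hyp S P` to `Fr` and `Cr`

* `fr_four` : `Fr S V z` from `Hyp S P`, `|V_P| = 4` and (F1);
* `cr_of_crit` : a critical pair `CritP S P n 1 y` gives `Cr V n z (y z y⁻¹)`.
-/

set_option autoImplicit false

namespace Cfsg.Agent.Omega.NO3S.Pt

open Subgroup Cfsg Cfsg.Agent.Omega.MinPar Cfsg.Agent.Omega.Frame Cfsg.Agent.Omega.FrameNOFF
open Cfsg.Agent.ZN (zl zc o2)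
open Cfsg.Agent.Omega.NoFF.Lines Cfsg.Agent.Omega.NO3S.TwoOne
open Cfsg.Agent.MinSimple.VModule
open scoped Pointwise

universe u

variable {G : Type u} [Group G] [Finite G] {S : Sylow 2 G} {P : Subgroup G}

/-- `|V_P| = 4` and (F1) -/
theorem fr_four (h : Hyp S P) (hc : Nat.card (zl (S : Subgroup G) P) = 4) {z : G}
    (hz : z ∈ zc (S : Subgroup G)) (hz1 : z ≠ 1)
    (f1 : ∃ k ∈ MinSimple.Geo.kq (zl (S : Subgroup G) P) z,
      k ∉ centralizer (zl (S : Subgroup G) P : Set G)) :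
    Fr (S : Subgroup G) (zl (S : Subgroup G) P) z := by
  refine ⟨ln_four h hc hz hz1, ?_, f1⟩
  intro a ha b hb
  rw [ws_four h hc hz hz1] at ha hb
  exact mem_centralizer_iff.1 (h.W_comm hb) a ha

/-- `W_x` in both languages -/
theorem conj_WW (h : Hyp S P) (hc : Nat.card (zl (S : Subgroup G) P) = 4) {z : G}
    (hz : z ∈ zc (S : Subgroup G)) (hz1 : z ≠ 1) (x : G) :
    MulAut.conj x • WW (S : Subgroup G) P = MinSimple.Geo.ws (zl (S : Subgroup G) P) (x * z * x⁻¹) := by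
  rw [conj_smul_eq_cj, ← ws_four h hc hz hz1, MinSimple.Geo.cj_ws]

theorem com_iff (h : Hyp S P) (hc : Nat.card (zl (S : Subgroup G) P) = 4) {z : G}
    (hz : z ∈ zc (S : Subgroup G)) (hz1 : z ≠ 1) (x y : G) :
    NoFF.Lines.Com (zc (S : Subgroup G)) (CZ (S : Subgroup G)) {P} x y ↔
      Com (zl (S : Subgroup G) P) (x * z * x⁻¹) (y * z * y⁻¹) := by
  have h1 := conj_WW h hc hz hz1 x
  have h2 := conj_WW h hc hz hz1 y
  unfold NoFF.Lines.Com Com
  constructor
  · intro hcom a ha b hb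
    rw [← h1] at ha
    rw [← h2] at hb
    exact (mem_centralizer_iff.1 (hcom ha) b hb).symm
  · intro hcom a ha
    rw [mem_centralizer_iff]
    intro b hb
    refine (hcom a ?_ b ?_).symm
    · rw [← h1]; exact ha
    · rw [← h2]; exact hb

/-- a path of points gives a path of cosets -/
theorem path_of_pth (h : Hyp S P) (hc : Nat.card (zl (S : Subgroup G) P) = 4) {z : G}
    (hz : z ∈ zc (S : Subgroup G)) (hz1 : z ≠ 1)
    (hf : Fr (S : Subgroup G) (zl (S : Subgroup G) P) z) {k : ℕ} {a b : G}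
    (hp : Pth (zl (S : Subgroup G) P) k a b) :
    ∃ x y, x * z * x⁻¹ = a ∧ y * z * y⁻¹ = b ∧
      NoFF.Lines.Path (CZ (S : Subgroup G)) {P} k x y := by
  induction hp with
  | zero hx =>
    obtain ⟨x, hx⟩ := hf.isPt hx
    exact ⟨x, x, hx, hx, NoFF.Lines.Path.refl x⟩
  | step _ c ih =>
    rename_i k a b w _
    obtain ⟨x, m, hx, hm, hpath⟩ := ih
    obtain ⟨g, hb, hw, -, hw1⟩ := c
    have hl := ln_four h hc hz hz1
    have hmem : MinSimple.Geo.cj (m⁻¹ * g) (zl (S : Subgroup G) P) ∈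
        MinSimple.Geo.lines (zl (S : Subgroup G) P) z := by
      refine ⟨⟨_, rfl⟩, ?_⟩
      rw [MinSimple.Geo.mem_cj] at hb ⊢
      have e : (m⁻¹ * g)⁻¹ * z * (m⁻¹ * g) = g⁻¹ * (m * z * m⁻¹) * g := by group
      rw [e, hm]; exact hb
    obtain ⟨c, hcz, hce⟩ := hl.exists_of_mem_lines hmem
    have hwc : (m * c)⁻¹ * w * (m * c) ∈ zl (S : Subgroup G) P := by
      rw [← MinSimple.Geo.mem_cj, ← MinSimple.Geo.cj_cj, ← hce, MinSimple.Geo.cj_cj]
      have e : m * (m⁻¹ * g) = g := by group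
      rw [e]; exact hw
    have hwc1 : (m * c)⁻¹ * w * (m * c) ≠ 1 := fun e => hw1 (by
      have : w = (m * c) * ((m * c)⁻¹ * w * (m * c)) * (m * c)⁻¹ := by group
      rw [this, e]; group)
    obtain ⟨p, hp, hpz⟩ := exists_conj_four h.ctx h.star h.nonLoc hc hz hz1 hwc hwc1
    refine ⟨x, m * c * p * 1, hx, ?_, ?_⟩
    · calc m * c * p * 1 * z * (m * c * p * 1)⁻¹ = (m * c) * (p * z * p⁻¹) * (m * c)⁻¹ := by group
        _ = w := by rw [hpz]; group
    · refine (hpath.mul_right ?_).step rfl hp (one_mem _)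
      rw [← centralizer_singleton_eq_CZ h hc hz hz1]
      exact hcz

/-- a path of cosets gives a path of points -/
theorem pth_of_path (h : Hyp S P) (hc : Nat.card (zl (S : Subgroup G) P) = 4) {z : G}
    (hz : z ∈ zc (S : Subgroup G)) (hz1 : z ≠ 1)
    (hf : Fr (S : Subgroup G) (zl (S : Subgroup G) P) z) {k : ℕ} {x y : G}
    (hp : NoFF.Lines.Path (CZ (S : Subgroup G)) {P} k x y) :
    Pth (zl (S : Subgroup G) P) k (x * z * x⁻¹) (y * z * y⁻¹) := by
  have hfix : ∀ c ∈ CZ (S : Subgroup G), c * z * c⁻¹ = z := by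
    intro c hcC
    rw [← centralizer_singleton_eq_CZ h hc hz hz1, mem_centralizer_singleton_iff] at hcC
    rw [hcC]; group
  induction hp with
  | @zero g c hcC =>
    have e : g * c * z * (g * c)⁻¹ = g * (c * z * c⁻¹) * g⁻¹ := by group
    rw [e, hfix c hcC]
    exact Pth.zero (hf.col_conj_z g)
  | @step k g m p c Q _ hQ hp hcC ih =>
    rw [Set.mem_singleton_iff] at hQ
    subst hQ
    have e : m * p * c * z * (m * p * c)⁻¹ = (m * p) * (c * z * c⁻¹) * (m * p)⁻¹ := by group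
    rw [e, hfix c hcC]
    refine ih.step ⟨m, MinSimple.Geo.conj_mem_cj hf.ln.z_mem, ?_, fun e => hz1 (conj_eq_one_iff.1 e),
      fun e => hz1 (conj_eq_one_iff.1 e)⟩
    rw [MinSimple.Geo.mem_cj]
    have e : m⁻¹ * (m * p * z * (m * p)⁻¹) * m = p * z * p⁻¹ := by group
    rw [e]
    exact (mem_normalizer_iff.1 (Cfsg.Agent.ZN.le_normalizer_zl _ _ hp) z).1 hf.ln.z_mem

/-- **critical pairs in the language of points** -/
theorem cr_of_crit (h : Hyp S P) (hc : Nat.card (zl (S : Subgroup G) P) = 4) {z : G}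
    (hz : z ∈ zc (S : Subgroup G)) (hz1 : z ≠ 1)
    (hf : Fr (S : Subgroup G) (zl (S : Subgroup G) P) z) {n : ℕ} {y : G}
    (hy : CritP (S : Subgroup G) P n 1 y) : Cr (zl (S : Subgroup G) P) n z (y * z * y⁻¹) := by
  have e1 : (1 : G) * z * (1 : G)⁻¹ = z := by group
  refine ⟨?_, ?_, ?_⟩
  · have := pth_of_path h hc hz hz1 hf hy.path
    rwa [e1] at this
  · have := hy.ne
    rw [com_iff h hc hz hz1, e1] at this
    exact this
  · intro k hk a b hab
    obtain ⟨x, y, rfl, rfl, hp⟩ := path_of_pth h hc hz hz1 hf hab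
    rw [← com_iff h hc hz hz1]
    exact hy.min k hk x y hp

end Cfsg.Agent.Omega.NO3S.Pt
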